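import Cfsg.Agent.LocalEven62.Basic
import Cfsg.Agent.LargeSub.Basic
import Cfsg.Agent.Lib.Perm.QuaternionClassTwo
import Cfsg.Agent.FPFStructure.QuatAut
import Mathlib.LinearAlgebra.Matrix.GeneralLinearGroup.Defs

/-!
# Recognition of `GL(2,3)` by generators

A group of order 48 generated by `i, c, t` with the relations in `Rel` is `GL(2,3)`.
-/

set_option autoImplicit false

namespace Cfsg.Agent.GL23Rec

open Subgroup

variable {K : Type*} [Group K]

/-- The relations between the three generators. -/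
structure Rel (i c t : K) : Prop where
  pow4 : i ^ 4 = 1
  sqj : (c * i * c⁻¹) * (c * i * c⁻¹) = i * i
  conj : (c * i * c⁻¹) * i * (c * i * c⁻¹)⁻¹ = i⁻¹
  cj : c * (c * i * c⁻¹) * c⁻¹ = i * (c * i * c⁻¹)
  c3 : c ^ 3 = 1
  t2 : t * t = 1
  tc : t * c * t = c⁻¹
  ti : t * i * t = i⁻¹

theorem card_sup_le [Finite K] {A B : Subgroup K} (h : A ≤ normalizer (B : Set K)) :
    Nat.card ↥(A ⊔ B) ≤ Nat.card ↥A * Nat.card ↥B := by
  rw [← Nat.card_prod]
  refine Nat.card_le_card_of_surjective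
    (fun x : A × B => (⟨x.1 * x.2, mul_mem (mem_sup_left x.1.2) (mem_sup_right x.2.2)⟩ :
      ↥(A ⊔ B))) ?_
  rintro ⟨x, hx⟩
  obtain ⟨a, ha, b, hb, rfl⟩ := LargeSub.exists_mul_of_mem_sup h hx
  exact ⟨⟨⟨a, ha⟩, ⟨b, hb⟩⟩, rfl⟩

theorem card_closure_le [Finite K] {i c t : K} (r : Rel i c t) :
    Nat.card ↥(closure ({i, c, t} : Set K)) ≤ 48 := by
  classical
  set j := c * i * c⁻¹ with hj
  set Q := closure ({i, j} : Set K) with hQ
  have hQ8 : Nat.card ↥Q ≤ 8 := by
    have h2 : j * j * (j * j) = 1 := by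
      rw [r.sqj, ← r.pow4]; simp [pow_succ, mul_assoc]
    have h3 : i * j * i = j := by
      have h := mul_inv_eq_iff_eq_mul.1 r.conj
      rw [mul_assoc, h, mul_inv_cancel_left]
    obtain ⟨f, hfi, hfj⟩ := Perm.ClassTwo.exists_quaternion_hom i j r.sqj.symm h2 h3
    have hle : Q ≤ f.range := by
      rw [hQ, closure_le]
      rintro x (rfl | rfl)
      · exact ⟨_, hfi⟩
      · exact ⟨_, hfj⟩
    refine (card_le_of_le hle).trans ?_
    refine (Nat.card_le_card_of_surjective _ f.rangeRestrict_surjective).trans ?_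
    rw [Nat.card_eq_fintype_card, QuaternionGroup.card]
  set C := zpowers c with hC
  set T := zpowers t with hT
  have hti : t⁻¹ = t := inv_eq_of_mul_eq_one_right r.t2
  have hCcard : Nat.card ↥C ≤ 3 := by
    rw [hC, Nat.card_zpowers]
    exact Nat.le_of_dvd (by norm_num) (orderOf_dvd_of_pow_eq_one r.c3)
  have hTcard : Nat.card ↥T ≤ 2 := by
    rw [hT, Nat.card_zpowers]
    exact Nat.le_of_dvd (by norm_num) (orderOf_dvd_of_pow_eq_one (by rw [pow_two]; exact r.t2))
  have hTC : T ≤ normalizer (C : Set K) := by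
    rw [hT, zpowers_le]
    refine LocalEven62.mem_normalizer_of_conj_mem fun x hx => ?_
    obtain ⟨n, rfl⟩ := mem_zpowers_iff.1 hx
    rw [← conj_zpow, hti, r.tc]
    exact zpow_mem (inv_mem (mem_zpowers c)) n
  have hiQ : i ∈ Q := subset_closure (by simp)
  have hjQ : j ∈ Q := subset_closure (by simp)
  have hconjQ : ∀ g : K, g * i * g⁻¹ ∈ Q → g * j * g⁻¹ ∈ Q → g ∈ normalizer (Q : Set K) := by
    intro g h1 h2
    refine LocalEven62.mem_normalizer_of_conj_mem fun x hx => ?_
    have hle : Q ≤ Q.comap (MulAut.conj g).toMonoidHom := by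
      conv_lhs => rw [hQ]
      rw [closure_le]
      rintro y (rfl | rfl)
      · exact h1
      · exact h2
    exact hle hx
  have hcN : c ∈ normalizer (Q : Set K) :=
    hconjQ c (hj ▸ hjQ) (by rw [r.cj]; exact mul_mem hiQ hjQ)
  have htN : t ∈ normalizer (Q : Set K) := by
    refine hconjQ t (by rw [hti, r.ti]; exact inv_mem hiQ) ?_
    have hcc : t * c = c⁻¹ * t := by rw [← r.tc, mul_assoc, r.t2, mul_one]
    have h : t * j * t⁻¹ = c⁻¹ * (t * i * t) * c⁻¹⁻¹ := by
      rw [hti, hj]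
      calc t * (c * i * c⁻¹) * t = (t * c) * i * ((t * c)⁻¹ * (t * t)) := by
            rw [r.t2]
            have : c⁻¹ * t = (t * c)⁻¹ := by
              rw [mul_inv_rev, hti]
            rw [mul_one, ← this]; group
        _ = c⁻¹ * (t * i * t) * c⁻¹⁻¹ := by rw [r.t2, hcc]; rw [mul_inv_rev, hti]; group
    rw [h, r.ti]
    exact (mem_normalizer_iff.1 (inv_mem hcN) _).1 (inv_mem hiQ)
  have hle : closure ({i, c, t} : Set K) ≤ (T ⊔ C) ⊔ Q := by
    rw [closure_le]
    rintro x (rfl | rfl | rfl)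
    · exact mem_sup_right hiQ
    · exact mem_sup_left (mem_sup_right (mem_zpowers _))
    · exact mem_sup_left (mem_sup_left (mem_zpowers _))
  refine (card_le_of_le hle).trans ?_
  have hN : T ⊔ C ≤ normalizer (Q : Set K) :=
    sup_le (zpowers_le.2 htN) (zpowers_le.2 hcN)
  refine (card_sup_le hN).trans ?_
  have := Nat.mul_le_mul ((card_sup_le hTC).trans (Nat.mul_le_mul hTcard hCcard)) hQ8
  omega

theorem Rel.prod {L : Type*} [Group L] {i c t : K} {i' c' t' : L} (r : Rel i c t)
    (r' : Rel i' c' t') : Rel (i, i') (c, c') (t, t') :=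
  ⟨Prod.ext r.pow4 r'.pow4, Prod.ext r.sqj r'.sqj, Prod.ext r.conj r'.conj, Prod.ext r.cj r'.cj,
    Prod.ext r.c3 r'.c3, Prod.ext r.t2 r'.t2, Prod.ext r.tc r'.tc, Prod.ext r.ti r'.ti⟩

/-- Two groups of order 48 generated by such triples are isomorphic. -/
theorem nonempty_mulEquiv [Finite K] {L : Type*} [Group L] [Finite L] {i c t : K} {i' c' t' : L}
    (r : Rel i c t) (r' : Rel i' c' t') (hK : Nat.card K = 48) (hL : Nat.card L = 48)
    (g : closure ({i, c, t} : Set K) = ⊤) (g' : closure ({i', c', t'} : Set L) = ⊤) :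
    Nonempty (K ≃* L) := by
  set D := closure ({(i, i'), (c, c'), (t, t')} : Set (K × L))
  let p : ↥D →* K := (MonoidHom.fst K L).comp D.subtype
  let q : ↥D →* L := (MonoidHom.snd K L).comp D.subtype
  have hD := card_closure_le (r.prod r')
  have hp : Function.Surjective p := by
    rw [← MonoidHom.range_eq_top, eq_top_iff, ← g, closure_le]
    rintro x hx
    rcases hx with h | h | h
    · exact ⟨⟨(i, i'), subset_closure (by simp)⟩, h.symm⟩
    · exact ⟨⟨(c, c'), subset_closure (by simp)⟩, h.symm⟩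
    · exact ⟨⟨(t, t'), subset_closure (by simp)⟩, h.symm⟩
  have hq : Function.Surjective q := by
    rw [← MonoidHom.range_eq_top, eq_top_iff, ← g', closure_le]
    rintro x hx
    rcases hx with h | h | h
    · exact ⟨⟨(i, i'), subset_closure (by simp)⟩, h.symm⟩
    · exact ⟨⟨(c, c'), subset_closure (by simp)⟩, h.symm⟩
    · exact ⟨⟨(t, t'), subset_closure (by simp)⟩, h.symm⟩
  have hD' : Nat.card ↥D = 48 :=
    le_antisymm hD (hK ▸ Nat.card_le_card_of_surjective p hp)
  have hpb := (Nat.bijective_iff_surjective_and_card p).2 ⟨hp, hD'.trans hK.symm⟩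
  have hqb := (Nat.bijective_iff_surjective_and_card q).2 ⟨hq, hD'.trans hL.symm⟩
  exact ⟨(MulEquiv.ofBijective p hpb).symm.trans (MulEquiv.ofBijective q hqb)⟩

theorem quat_gen : ∀ u v : QuaternionGroup 2, u * v ≠ v * u →
    ∀ q : QuaternionGroup 2, ∃ k : Fin 4, ∃ l : Fin 4, q = u ^ (k : ℕ) * v ^ (l : ℕ) := by
  decide +kernel

open FPFStructure QuaternionGroup in
set_option maxRecDepth 4000 in
set_option synthInstance.maxSize 2000 in
/-- Automorphisms of `Q₈` generating an `S₃` have a standard basis. -/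
theorem quat_basis : ∀ u v : QuaternionGroup 2, u * v ≠ v * u →
    ∀ u' v' : QuaternionGroup 2, u' * v' ≠ v' * u' →
    wordImage u v (wordImage u v (wordImage u v (a 1))) = a 1 →
    wordImage u v (wordImage u v (wordImage u v (xa 0))) = xa 0 →
    (u ≠ a 1 ∨ v ≠ xa 0) →
    wordImage u' v' (wordImage u' v' (a 1)) = a 1 →
    wordImage u' v' (wordImage u' v' (xa 0)) = xa 0 →
    wordImage u' v' (wordImage u v (wordImage u' v' (a 1))) = wordImage u v (wordImage u v (a 1)) →
    wordImage u' v' (wordImage u v (wordImage u' v' (xa 0))) = wordImage u v (wordImage u v (xa 0)) →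
    ∃ x : QuaternionGroup 2, x ^ 4 = 1 ∧
      wordImage u v x * x ≠ x * wordImage u v x ∧
      wordImage u v x * wordImage u v x = x * x ∧
      wordImage u v x * x * (wordImage u v x)⁻¹ = x⁻¹ ∧
      wordImage u v (wordImage u v x) = x * wordImage u v x ∧
      wordImage u' v' x = x⁻¹ := by
  decide +kernel

end Cfsg.Agent.GL23Rec
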